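import Cfsg.Agent.H124.Cop.Tool
import Cfsg.Agent.CpAutLy.Row
import Cfsg.Agent.McLType.ThreeElts
import Cfsg.Agent.H845.CopLy

/-!
# The Lyons group: elements of order 67 are self-centralizing (helper124, for S4175/S4174)
-/

set_option autoImplicit false
set_option maxRecDepth 100000

namespace Cfsg.Agent.H124.Cop.SCLy

open Subgroup Equiv Cfsg Cfsg.Agent.H995.CopEngine Cfsg.Agent.OrdDiv Cfsg.Agent.H961.PrimeSection Cfsg.Agent.H537.Cop
open Cfsg.Agent.TypeM.Two Cfsg.Agent.CpAutLy.Types Cfsg.Agent.CpAutLy.Base Cfsg.Agent.CpAutLy.McLThree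
open Cfsg.Agent.SporRec.TwoAn Cfsg.Agent.CpAutLy.Cov

/-- the factorization of `|Ly|` -/
def lLy : List (ℕ × ℕ) := [(2, 8), (3, 7), (5, 6), (7, 1), (11, 1), (31, 1), (37, 1), (67, 1)]

theorem lLy_valid : valid lLy 51765179004000000 = true := by decide +kernel

theorem chkLy : chkOne lLy 51765179004000000 67 1 = true := by decide +kernel

theorem prime_cases {p : ℕ} (hp : p.Prime) (h : p ∣ 51765179004000000) :
    p = 2 ∨ p = 3 ∨ p = 5 ∨ p = 7 ∨ p = 11 ∨ p = 31 ∨ p = 37 ∨ p = 67 := by
  have e : (51765179004000000 : ℕ) = 2 ^ 8 * (3 ^ 7 * (5 ^ 6 * (7 * (11 * (31 * (37 * 67)))))) := by norm_num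
  have key : ∀ {q : ℕ}, q.Prime → p ∣ q → p = q := fun hq h => (Nat.prime_dvd_prime_iff_eq hp hq).1 h
  rw [e] at h
  rcases hp.dvd_mul.1 h with h | h
  · exact Or.inl (key (by norm_num) (hp.dvd_of_dvd_pow h))
  rcases hp.dvd_mul.1 h with h | h
  · exact Or.inr (Or.inl (key (by norm_num) (hp.dvd_of_dvd_pow h)))
  rcases hp.dvd_mul.1 h with h | h
  · exact Or.inr (Or.inr (Or.inl (key (by norm_num) (hp.dvd_of_dvd_pow h))))
  rcases hp.dvd_mul.1 h with h | h
  · have := key (by norm_num) h; omega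
  rcases hp.dvd_mul.1 h with h | h
  · have := key (by norm_num) h; omega
  rcases hp.dvd_mul.1 h with h | h
  · have := key (by norm_num) h; omega
  rcases hp.dvd_mul.1 h with h | h
  · have := key (by norm_num) h; omega
  · have := key (by norm_num) h; omega

theorem cond : Cond 67 51765179004000000 := by
  intro p i hp hpr hi hd
  have h1 := prime_cases hp ((dvd_pow_self p (by omega)).trans hd)
  rcases h1 with rfl | rfl | rfl | rfl | rfl | rfl | rfl | rfl
  · exact cond_of_chk (m := 8) hp (by norm_num) (by decide +kernel) i hi hd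
  · exact cond_of_chk (m := 7) hp (by norm_num) (by decide +kernel) i hi hd
  · exact cond_of_chk (m := 6) hp (by norm_num) (by decide +kernel) i hi hd
  · exact cond_of_chk (m := 1) hp (by norm_num) (by decide +kernel) i hi hd
  · exact cond_of_chk (m := 1) hp (by norm_num) (by decide +kernel) i hi hd
  · exact cond_of_chk (m := 1) hp (by norm_num) (by decide +kernel) i hi hd
  · exact cond_of_chk (m := 1) hp (by norm_num) (by decide +kernel) i hi hd
  · exact absurd rfl hpr

section

variable (hK : AllKnown.{0}) (L : MT 11 Spor.Ly) {w : Spor.Ly} (hw : orderOf w = 67)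

include L hw in
/-- 67 is not adjacent to 2 -/
theorem odd_cent : ¬ 2 ∣ Nat.card (centralizer ({w} : Set Spor.Ly)) := by
  intro h
  have hfin : Finite Spor.Ly := Cfsg.Agent.Ly.Setup.finite_ly
  have : Fact (Nat.Prime 2) := ⟨Nat.prime_two⟩
  obtain ⟨t, ht⟩ := exists_prime_orderOf_dvd_card' 2 h
  obtain ⟨h1, h2⟩ := MT.sq_of_orderOf (s := (t : Spor.Ly)) (by rw [Subgroup.orderOf_coe]; exact ht)
  obtain ⟨g, hg⟩ := L.one _ h1 h2
  have h3 := Cfsg.Agent.H845.CopLy.card_cent L
  rw [card_cent_conj hg] at h3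
  have h4 : orderOf (⟨w, Subgroup.mem_centralizer_singleton_iff.2 (Subgroup.mem_centralizer_singleton_iff.1 t.2).symm⟩ :
      centralizer ({(t : Spor.Ly)} : Set Spor.Ly)) = 67 := by rw [Subgroup.orderOf_mk, hw]
  have h5 := orderOf_dvd_natCard (⟨w, Subgroup.mem_centralizer_singleton_iff.2
      (Subgroup.mem_centralizer_singleton_iff.1 t.2).symm⟩ : centralizer ({(t : Spor.Ly)} : Set Spor.Ly))
  rw [h4, h3] at h5
  norm_num at h5

include hK hw in
theorem le_normalizer {y : Spor.Ly} (hy : y ≠ 1) (hyw : y * w = w * y) :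
    centralizer ({y} : Set Spor.Ly) ≤ normalizer (zpowers w : Set Spor.Ly) := by
  have hfin : Finite Spor.Ly := Cfsg.Agent.Ly.Setup.finite_ly
  have hs : IsSimpleGroup Spor.Ly := Cfsg.Agent.Ly.Setup.isSimple_ly
  refine le_norm hK ?_ Cfsg.Agent.Ly.Setup.card_ly lLy_valid (by norm_num) (by norm_num) chkLy cond hw
    (Subgroup.mem_centralizer_singleton_iff.2 hyw.symm)
  intro h
  have h1 : y ∈ center Spor.Ly := by
    rw [Subgroup.mem_center_iff]
    intro g
    have h2 : g ∈ centralizer ({y} : Set Spor.Ly) := by rw [h]; exact mem_top g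
    exact Subgroup.mem_centralizer_singleton_iff.1 h2
  rcases (inferInstance : (center Spor.Ly).Normal).eq_bot_or_eq_top with h2 | h2
  · rw [h2, mem_bot] at h1
    exact hy h1
  · obtain ⟨L⟩ := TypeM.FactsLy.exists_mt_ly
    obtain ⟨a, b, hab⟩ := TypeM.OutLyFin.not_comm (by norm_num) L
    apply hab
    have h3 : b ∈ center Spor.Ly := by rw [h2]; exact mem_top b
    exact Subgroup.mem_center_iff.1 h3 a

include hK L hw in
/-- `4` does not divide `|C(y)|` for `y ≠ 1` commuting with `w` -/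
theorem not_four {y : Spor.Ly} (hy : y ≠ 1) (hyw : y * w = w * y) :
    ¬ 4 ∣ Nat.card (centralizer ({y} : Set Spor.Ly)) := by
  intro h
  have hfin : Finite Spor.Ly := Cfsg.Agent.Ly.Setup.finite_ly
  have h1 := h.trans (card_dvd_of_le (le_normalizer hK hw hy hyw))
  obtain ⟨e, he, hc⟩ := card_normalizer (by norm_num) hw
  rw [hc] at h1
  have h2 : Nat.Coprime 4 (Nat.card (centralizer ({w} : Set Spor.Ly))) := by
    have h3 : (4 : ℕ) = 2 ^ 2 := by norm_num
    rw [h3]
    exact Nat.Coprime.pow_left _ ((Nat.Prime.coprime_iff_not_dvd Nat.prime_two).2 (odd_cent L hw))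
  have h3 := (h2.dvd_of_dvd_mul_left h1).trans he
  norm_num at h3

/-- an element of `C(t)` of odd order with an odd permutation commuting with its image -/
theorem dvd_cent {y : centralizer ({L.t} : Set Spor.Ly)} {n m : ℕ} (hn : Odd n) (hy : y ^ n = 1)
    (ho : HasOdd (L.K.π y)) (hm : m ∣ Nat.card (centralizer ({L.K.π y} : Set (Perm (Fin 11))))) :
    m ∣ Nat.card (centralizer ({(y : Spor.Ly)} : Set Spor.Ly)) := by
  have hfin : Finite Spor.Ly := Cfsg.Agent.Ly.Setup.finite_ly
  rw [← card_eq L.K hn hy ho] at hm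
  refine hm.trans ?_
  let f : centralizer ({y} : Set (centralizer ({L.t} : Set Spor.Ly))) →* centralizer ({(y : Spor.Ly)} : Set Spor.Ly) :=
    { toFun := fun g => ⟨((g : centralizer ({L.t} : Set Spor.Ly)) : Spor.Ly),
        Subgroup.mem_centralizer_singleton_iff.2 (congrArg Subtype.val (Subgroup.mem_centralizer_singleton_iff.1 g.2))⟩
      map_one' := rfl
      map_mul' := fun _ _ => rfl }
  refine Subgroup.card_dvd_of_injective f ?_
  intro a b hab
  have h3 : ((a : centralizer ({L.t} : Set Spor.Ly)) : Spor.Ly) = b :=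
    congrArg (fun z : centralizer ({(y : Spor.Ly)} : Set Spor.Ly) => (z : Spor.Ly)) hab
  exact Subtype.ext (Subtype.ext h3)

/-- a 5-cycle -/
def c5 : Perm (Fin 11) := swap 0 1 * swap 1 2 * swap 2 3 * swap 3 4
/-- a 7-cycle -/
def c7 : Perm (Fin 11) := swap 0 1 * swap 1 2 * swap 2 3 * swap 3 4 * swap 4 5 * swap 5 6

theorem type_c5 : c5.cycleType = {5} := by decide +kernel
theorem type_c7 : c7.cycleType = {7} := by decide +kernel

include hK L hw in
/-- the general argument for the primes 5 and 7 -/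
theorem not_dvd {q : ℕ} (hq : q.Prime) (hq2 : Odd q) (hqr : ¬ q ∣ 66) {c : Perm (Fin 11)} (hc : c ∈ alternatingGroup (Fin 11))
    (hcq : c ^ q = 1) (hc1 : c ≠ 1) (ho : HasOdd c) (h4 : 4 ∣ Nat.card (centralizer ({c} : Set (Perm (Fin 11))))) :
    ¬ q ∣ Nat.card (centralizer ({w} : Set Spor.Ly)) := by
  intro hd
  have hfin : Finite Spor.Ly := Cfsg.Agent.Ly.Setup.finite_ly
  have : Fact q.Prime := ⟨hq⟩
  obtain ⟨y, hy, hyq⟩ := L.K.exists_odd_lift hc hq2 hcq
  have hy1 : y ≠ 1 := by
    rintro rfl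
    rw [map_one] at hy
    exact hc1 hy.symm
  have hyo : orderOf (y : Spor.Ly) = q := by
    rw [Subgroup.orderOf_coe]
    exact orderOf_eq_prime hyq hy1
  obtain ⟨g, hg⟩ := exists_conj_comm (r := 67) (by norm_num) hq hqr hw (fun y hy hyw => le_normalizer hK hw hy hyw) hd hyo
  refine not_four hK L hw ?_ hg ?_
  · intro h
    rw [conj_eq_one_iff] at h
    rw [h, orderOf_one] at hyo
    exact hq.one_lt.ne hyo
  · rw [← card_cent_conj (x := (y : Spor.Ly)) rfl]
    exact dvd_cent L hq2 hyq (by rw [hy]; exact ho) (by rw [hy]; exact h4)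

include hK L hw in
theorem not_dvd_five : ¬ 5 ∣ Nat.card (centralizer ({w} : Set Spor.Ly)) := by
  refine not_dvd hK L hw (by norm_num) (by decide) (by norm_num) (c := c5) ?_ ?_ ?_ ?_ ?_
  · rw [Perm.mem_alternatingGroup]; decide +kernel
  · decide +kernel
  · decide +kernel
  · apply hasOdd_of_support
    rw [← c5.sum_cycleType, type_c5]
    decide
  · rw [Equiv.Perm.nat_card_centralizer, type_c5]
    decide

include hK L hw in
theorem not_dvd_seven : ¬ 7 ∣ Nat.card (centralizer ({w} : Set Spor.Ly)) := by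
  refine not_dvd hK L hw (by norm_num) (by decide) (by norm_num) (c := c7) ?_ ?_ ?_ ?_ ?_
  · rw [Perm.mem_alternatingGroup]; decide +kernel
  · decide +kernel
  · decide +kernel
  · apply hasOdd_of_support
    rw [← c7.sum_cycleType, type_c7]
    decide
  · rw [Equiv.Perm.nat_card_centralizer, type_c7]
    decide

/-- lifting an involution commuting with an element of order three through a central subgroup of order three -/
theorem exists_lift_inv {M : Type*} [Group M] [Finite M] (hz : Nat.card (center M) = 3) {y : M}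
    {s : M ⧸ center M} (hs : orderOf s = 2) (hsy : s * (QuotientGroup.mk y : M ⧸ center M) = QuotientGroup.mk y * s) :
    ∃ u : M, orderOf u = 2 ∧ u * y = y * u := by
  have : Fact (Nat.Prime 2) := ⟨Nat.prime_two⟩
  obtain ⟨v, rfl⟩ := QuotientGroup.mk_surjective s
  have hz3 : ∀ z ∈ center M, z ^ 3 = 1 := by
    intro z hz'
    have h1 := pow_card_eq_one' (x := (⟨z, hz'⟩ : center M))
    rw [hz] at h1
    exact congrArg Subtype.val h1
  have hv2 : v ^ 2 ∈ center M := by
    rw [← QuotientGroup.eq_one_iff, QuotientGroup.mk_pow, ← hs, pow_orderOf_eq_one]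
  have hmk : (QuotientGroup.mk (v ^ 3) : M ⧸ center M) = QuotientGroup.mk v := by
    rw [QuotientGroup.mk_pow, pow_succ, ← hs, pow_orderOf_eq_one, one_mul]
  have hu2 : (v ^ 3) ^ 2 = 1 := by
    rw [← pow_mul, mul_comm, pow_mul]
    exact hz3 _ hv2
  have hu1 : v ^ 3 ≠ 1 := by
    intro h
    rw [h, QuotientGroup.mk_one] at hmk
    rw [← hmk, orderOf_one] at hs
    omega
  refine ⟨v ^ 3, orderOf_eq_prime hu2 hu1, ?_⟩
  set u := v ^ 3 with hu
  have hc : u * y * u⁻¹ * y⁻¹ ∈ center M := by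
    rw [← QuotientGroup.eq_one_iff]
    change (QuotientGroup.mk u * QuotientGroup.mk y * (QuotientGroup.mk u)⁻¹ * (QuotientGroup.mk y)⁻¹ : M ⧸ center M) = 1
    rw [hmk, hsy, mul_inv_cancel_right, mul_inv_cancel]
  set z := u * y * u⁻¹ * y⁻¹ with hzd
  have hzc : ∀ g : M, g * z = z * g := fun g => Subgroup.mem_center_iff.1 hc g
  have hui : u * u = 1 := by rw [← pow_two]; exact hu2
  have huinv : u⁻¹ = u := inv_eq_of_mul_eq_one_left hui
  have h1 : u * y * u⁻¹ = z * y := by rw [hzd]; group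
  have h2 : y = z * z * y := by
    calc y = u * (u * y * u⁻¹) * u⁻¹ := by
            have : u * (u * y * u⁻¹) * u⁻¹ = (u * u) * y * (u * u)⁻¹ := by group
            rw [this, hui, one_mul, inv_one, mul_one]
      _ = u * (z * y) * u⁻¹ := by rw [h1]
      _ = z * (u * y * u⁻¹) := by rw [← mul_assoc u z y, hzc u]; group
      _ = z * z * y := by rw [h1]; group
  have h3 : z * z = 1 := by
    have := mul_right_cancel (b := y) (a := 1) (c := z * z) (by rw [one_mul]; exact h2)
    exact this.symm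
  have h4 : z = 1 := by
    have h5 := hz3 z hc
    rw [pow_succ, pow_two, h3, one_mul] at h5
    exact h5
  rw [h4, one_mul] at h1
  calc u * y = u * y * u⁻¹ * u := by group
    _ = y * u := by rw [h1]

theorem card_three {x₀ : Spor.Ly} (h₀ : Three x₀) : Nat.card (centralizer ({x₀} : Set Spor.Ly)) = 2694384000 := by
  obtain ⟨-, -, hcard, -⟩ := TypeM.FactsMcL.facts h₀.quot
  rw [card_eq_card_quotient_mul_card_subgroup (center ↥(centralizer ({x₀} : Set Spor.Ly))), hcard, h₀.zcard]

include hK L hw in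
/-- an element of order three of `C(x₀)` does not commute with `w` -/
theorem not_comm_three {x₀ y : Spor.Ly} (h₀ : Three x₀) (hy : orderOf y = 3) (hyx : y * x₀ = x₀ * y) :
    y * w ≠ w * y := by
  intro hyw
  have hfin : Finite Spor.Ly := Cfsg.Agent.Ly.Setup.finite_ly
  have hy1 : y ≠ 1 := by
    rintro rfl
    rw [orderOf_one] at hy
    omega
  let y' : centralizer ({x₀} : Set Spor.Ly) := ⟨y, Subgroup.mem_centralizer_singleton_iff.2 hyx⟩
  by_cases hc : y' ∈ center ↥(centralizer ({x₀} : Set Spor.Ly))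
  · obtain ⟨i, hi⟩ := Cfsg.Agent.CpAutLy.Row.center_le h₀ hc
    have hi' : y = x₀ ^ i := hi
    have hle : zpowers y ≤ zpowers x₀ := by
      rw [zpowers_le]
      exact ⟨i, hi'.symm⟩
    have heq : zpowers y = zpowers x₀ := Subgroup.eq_of_le_of_card_ge hle (by
      rw [Nat.card_zpowers, Nat.card_zpowers, hy, h₀.ord])
    have hx : x₀ ∈ zpowers y := by rw [heq]; exact mem_zpowers x₀
    obtain ⟨j, hj⟩ := hx
    have hj' : y ^ j = x₀ := hj
    have hxw : x₀ * w = w * x₀ := by
      rw [← hj']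
      exact ((show Commute y w from hyw).zpow_left j).eq
    have h1 := orderOf_dvd_natCard (⟨w, Subgroup.mem_centralizer_singleton_iff.2 hxw.symm⟩ :
      centralizer ({x₀} : Set Spor.Ly))
    rw [Subgroup.orderOf_mk, hw, card_three h₀] at h1
    norm_num at h1
  · have h3 : orderOf (QuotientGroup.mk y' : ↥(centralizer ({x₀} : Set Spor.Ly)) ⧸
        center ↥(centralizer ({x₀} : Set Spor.Ly))) = 3 :=
      Cfsg.Agent.CpAutLy.Row.orderOf_mk Nat.prime_three (by rw [Subgroup.orderOf_mk, hy]) hc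
    obtain ⟨s, hs, hsy⟩ := Cfsg.Agent.McLType.ThreeElts.exists_commuting_involution_of_iso h₀.quot _ h3
    obtain ⟨u, hu, huy⟩ := exists_lift_inv h₀.zcard hs hsy
    have hu' : orderOf (u : Spor.Ly) = 2 := by rw [Subgroup.orderOf_coe]; exact hu
    have huy' : (u : Spor.Ly) * y = y * u := congrArg Subtype.val huy
    have h4 : 4 ∣ nn y (u : Spor.Ly) := by
      rcases nn_cases L hy hu' huy' with h | h | h <;> rw [h] <;> norm_num
    exact not_four hK L hw hy1 hyw (h4.trans (card_dvd_of_le inf_le_left))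

include hK L hw in
theorem not_dvd_three : ¬ 3 ∣ Nat.card (centralizer ({w} : Set Spor.Ly)) := by
  intro hd
  have hfin : Finite Spor.Ly := Cfsg.Agent.Ly.Setup.finite_ly
  have : Fact (Nat.Prime 3) := ⟨Nat.prime_three⟩
  obtain ⟨x₀, h₀⟩ := exists_three
  obtain ⟨T, hT⟩ := Sylow.exists_subgroup_card_pow_prime (G := centralizer ({x₀} : Set Spor.Ly)) 3 (n := 7)
    (by rw [card_three h₀]; norm_num)
  set T' : Subgroup Spor.Ly := T.map (centralizer ({x₀} : Set Spor.Ly)).subtype with hT'
  have hcard : Nat.card T' = 3 ^ 7 := by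
    rw [hT', card_map_of_injective (subtype_injective _), hT]
  obtain ⟨y', hy'⟩ := exists_prime_orderOf_dvd_card' 3 hd
  set y : Spor.Ly := (y' : Spor.Ly) with hyd
  have hy : orderOf y = 3 := by rw [hyd, Subgroup.orderOf_coe, hy']
  have hyw : y * w = w * y := Subgroup.mem_centralizer_singleton_iff.1 y'.2
  have hfac : (Nat.card Spor.Ly).factorization 3 = 7 := by
    rw [Cfsg.Agent.Ly.Setup.card_ly]
    apply le_antisymm
    · by_contra h
      rw [not_le] at h
      have h1 := (Nat.prime_three.pow_dvd_iff_le_factorization (by norm_num)).2 h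
      norm_num at h1
    · exact (Nat.prime_three.pow_dvd_iff_le_factorization (by norm_num)).1 (by norm_num)
  let R : Sylow 3 Spor.Ly := Sylow.ofCard T' (by rw [hcard, hfac])
  have hR : (R : Subgroup Spor.Ly) = T' := rfl
  obtain ⟨Q, hQ⟩ := (IsPGroup.of_card (G := zpowers y) (p := 3) (n := 1)
    (by rw [Nat.card_zpowers, hy]; norm_num)).exists_le_sylow
  obtain ⟨g, hg⟩ := MulAction.exists_smul_eq Spor.Ly Q R
  have h1 : g * y * g⁻¹ ∈ (R : Subgroup Spor.Ly) := by
    rw [← hg, Sylow.smul_def, Sylow.pointwise_smul_def]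
    exact Subgroup.smul_mem_pointwise_smul y (MulAut.conj g) _ (hQ (mem_zpowers y))
  rw [hR] at h1
  have h2 : g * y * g⁻¹ ∈ centralizer ({x₀} : Set Spor.Ly) := map_subtype_le T h1
  exact not_comm_three hK L (w := g * w * g⁻¹) (by rw [orderOf_conj', hw]) h₀ (by rw [orderOf_conj', hy])
    (Subgroup.mem_centralizer_singleton_iff.1 h2) (conj_comm g hyw)

/-- the numbers -/
theorem arith {c e : ℕ} (h67 : 67 ∣ c) (hcN : c ∣ 51765179004000000) (h2 : ¬ 2 ∣ c) (h3 : ¬ 3 ∣ c) (h5 : ¬ 5 ∣ c)
    (h7 : ¬ 7 ∣ c) (he : e ∣ 66) (hce : c * e ∣ 51765179004000000) (hm : 51765179004000000 / (c * e) % 67 = 1 % 67) :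
    c = 67 ∨ (c = 737 ∧ e = 2) := by
  have h1 : c ∣ 845339 := by
    have e1 : (51765179004000000 : ℕ) = (2 ^ 8 * 3 ^ 7 * 5 ^ 6 * 7) * 845339 := by norm_num
    rw [e1] at hcN
    refine Nat.Coprime.dvd_of_dvd_mul_left ?_ hcN
    have k2 := ((Nat.Prime.coprime_iff_not_dvd Nat.prime_two).2 h2).symm
    have k3 := ((Nat.Prime.coprime_iff_not_dvd Nat.prime_three).2 h3).symm
    have k5 := ((Nat.Prime.coprime_iff_not_dvd Nat.prime_five).2 h5).symm
    have k7 := ((Nat.Prime.coprime_iff_not_dvd (by norm_num : Nat.Prime 7)).2 h7).symm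
    exact ((((k2.pow_right 8).mul_right (k3.pow_right 7)).mul_right (k5.pow_right 6)).mul_right k7)
  obtain ⟨d, rfl⟩ := h67
  have hd : d ∣ 12617 := Nat.dvd_of_mul_dvd_mul_left (k := 67) (by norm_num) (by exact h1)
  have hd' : d ∈ ([1, 11, 31, 37, 341, 407, 1147, 12617] : List ℕ) := by
    have k0 : d ∣ 341 * 37 := hd
    obtain ⟨a, b, ha, hb, rfl⟩ := (Nat.dvd_mul).1 k0
    have k1 : ∀ f < 342, f ∣ 341 → f ∈ ([1, 11, 31, 341] : List ℕ) := by decide +kernel
    have k2 : ∀ f < 38, f ∣ 37 → f ∈ ([1, 37] : List ℕ) := by decide +kernel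
    have k3 : ∀ a ∈ ([1, 11, 31, 341] : List ℕ), ∀ b ∈ ([1, 37] : List ℕ),
        a * b ∈ ([1, 11, 31, 37, 341, 407, 1147, 12617] : List ℕ) := by decide
    have k4 := Nat.le_of_dvd (by norm_num) ha
    have k5 := Nat.le_of_dvd (by norm_num) hb
    exact k3 a (k1 a (by omega) ha) b (k2 b (by omega) hb)
  have he' : e ∈ ([1, 2, 3, 6, 11, 22, 33, 66] : List ℕ) := by
    have k1 : e ≤ 66 := Nat.le_of_dvd (by norm_num) he
    have k2 : ∀ f < 67, f ∣ 66 → f ∈ ([1, 2, 3, 6, 11, 22, 33, 66] : List ℕ) := by decide +kernel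
    exact k2 e (by omega) he
  have key : ∀ d ∈ ([1, 11, 31, 37, 341, 407, 1147, 12617] : List ℕ), ∀ e ∈ ([1, 2, 3, 6, 11, 22, 33, 66] : List ℕ),
      51765179004000000 % (67 * d * e) = 0 → 51765179004000000 / (67 * d * e) % 67 = 1 % 67 →
      67 * d = 67 ∨ (67 * d = 737 ∧ e = 2) := by decide +kernel
  exact key d hd' e he' (Nat.mod_eq_zero_of_dvd hce) hm

include hK L hw in
theorem main : Nat.card (centralizer ({w} : Set Spor.Ly)) = 67 := by
  have hfin : Finite Spor.Ly := Cfsg.Agent.Ly.Setup.finite_ly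
  have hcard := Cfsg.Agent.Ly.Setup.card_ly
  obtain ⟨e, he, hc⟩ := card_normalizer (by norm_num) hw
  have hmod := sylow_mod (r := 67) (by norm_num) (by rw [hcard]; norm_num) hw
  have h67 : 67 ∣ Nat.card (centralizer ({w} : Set Spor.Ly)) := by
    rw [← hw]
    exact Subgroup.orderOf_dvd_natCard _ (Subgroup.mem_centralizer_singleton_iff.2 rfl)
  have hcN : Nat.card (centralizer ({w} : Set Spor.Ly)) ∣ 51765179004000000 := by
    rw [← hcard]; exact card_subgroup_dvd_card _
  have hce : Nat.card (centralizer ({w} : Set Spor.Ly)) * e ∣ 51765179004000000 := by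
    rw [← hcard, ← hc]; exact card_subgroup_dvd_card _
  rw [hcard, hc] at hmod
  rcases arith h67 hcN (odd_cent L hw) (not_dvd_three hK L hw) (not_dvd_five hK L hw) (not_dvd_seven hK L hw) he hce hmod
    with h | ⟨h, h'⟩
  · exact h
  · exfalso
    rw [h, h'] at hc
    have h11 : 11 ∣ Nat.card (centralizer ({w} : Set Spor.Ly)) := by rw [h]; norm_num
    have : Fact (Nat.Prime 11) := ⟨by norm_num⟩
    obtain ⟨y', hy'⟩ := exists_prime_orderOf_dvd_card' 11 h11
    set y : Spor.Ly := (y' : Spor.Ly) with hyd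
    have hy : orderOf y = 11 := by rw [hyd, Subgroup.orderOf_coe, hy']
    have hyw : y * w = w * y := Subgroup.mem_centralizer_singleton_iff.1 y'.2
    have hmod11 := sylow_mod (r := 11) (by norm_num) (by rw [hcard]; norm_num) hy
    have hs : IsSimpleGroup Spor.Ly := Cfsg.Agent.Ly.Setup.isSimple_ly
    -- the normalizer of `⟨y⟩` lies in that of `⟨w⟩`
    have hcent : centralizer ({y} : Set Spor.Ly) ≤ normalizer (zpowers y : Set Spor.Ly) := by
      refine le_trans ?_ (Subgroup.centralizer_le_normalizer _)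
      intro x hx
      exact mem_centralizer_zpowers.2 hx
    have hwN : w ∈ normalizer (zpowers y : Set Spor.Ly) := hcent (Subgroup.mem_centralizer_singleton_iff.2 hyw.symm)
    have hne : normalizer (zpowers y : Set Spor.Ly) ≠ ⊤ := by
      intro h0
      have h1 := Subgroup.normalizer_eq_top_iff.1 h0
      rcases h1.eq_bot_or_eq_top with h2 | h2
      · rw [zpowers_eq_bot] at h2
        rw [h2, orderOf_one] at hy
        omega
      · have h3 : Nat.card (zpowers y) = 51765179004000000 := by rw [h2, card_top, hcard]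
        rw [Nat.card_zpowers, hy] at h3
        norm_num at h3
    have hle := le_norm hK hne hcard lLy_valid (by norm_num) (by norm_num) chkLy cond hw hwN
    have hd1 := card_dvd_of_le hle
    rw [hc] at hd1
    have hd2 : 737 ∣ Nat.card (normalizer (zpowers y : Set Spor.Ly)) := by
      have h1 : 67 ∣ Nat.card (normalizer (zpowers y : Set Spor.Ly)) := by
        rw [← hw]; exact Subgroup.orderOf_dvd_natCard _ hwN
      have h2 : 11 ∣ Nat.card (normalizer (zpowers y : Set Spor.Ly)) := by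
        rw [← hy]; exact Subgroup.orderOf_dvd_natCard _ (hcent (Subgroup.mem_centralizer_singleton_iff.2 rfl))
      exact (by norm_num : Nat.Coprime 67 11).mul_dvd_of_dvd_of_dvd h1 h2
    rw [hcard] at hmod11
    obtain ⟨k, hk⟩ := hd2
    rw [hk] at hd1 hmod11
    have hk2 : k ∣ 2 := Nat.dvd_of_mul_dvd_mul_left (k := 737) (by norm_num) hd1
    rcases (Nat.dvd_prime Nat.prime_two).1 hk2 with rfl | rfl
    · norm_num at hmod11
    · norm_num at hmod11

end

/-- **Elements of order 67 of the Lyons group are self-centralizing.** -/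
theorem sc (hK : AllKnown.{0}) : SC 67 Spor.Ly := by
  intro w hw
  obtain ⟨L⟩ := TypeM.FactsLy.exists_mt_ly
  exact main hK L hw

end Cfsg.Agent.H124.Cop.SCLy
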